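import Mathlib

/-!
# Explicit elements of `A₆` and `A₇`
-/

set_option autoImplicit false
set_option maxRecDepth 20000

namespace Cfsg.Agent.PSLThree.Small

open Equiv

/-- an inverted nine-group and a real element of order five -/
theorem alt_six_elements : ∃ e f t x k : alternatingGroup (Fin 6),
    e ^ 3 = 1 ∧ f ^ 3 = 1 ∧ e * f = f * e ∧ e ≠ 1 ∧ f ≠ 1 ∧ e * f ≠ 1 ∧ e * f * f ≠ 1 ∧
    t * e * t⁻¹ = e⁻¹ ∧ t * f * t⁻¹ = f⁻¹ ∧ x ^ 5 = 1 ∧ x ≠ 1 ∧ k * x * k⁻¹ = x⁻¹ := by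
  refine ⟨⟨swap 0 1 * swap 1 2, ?_⟩, ⟨swap 3 4 * swap 4 5, ?_⟩, ⟨swap 0 1 * swap 3 4, ?_⟩,
    ⟨swap 0 1 * swap 1 2 * swap 2 3 * swap 3 4, ?_⟩, ⟨swap 1 4 * swap 2 3, ?_⟩, ?_⟩
  all_goals first
    | exact Perm.mem_alternatingGroup.2 (by decide +kernel)
    | decide +kernel

/-- an inverted nine-group and an element of order five conjugate to its square -/
theorem alt_seven_elements : ∃ e f t x k : alternatingGroup (Fin 7),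
    e ^ 3 = 1 ∧ f ^ 3 = 1 ∧ e * f = f * e ∧ e ≠ 1 ∧ f ≠ 1 ∧ e * f ≠ 1 ∧ e * f * f ≠ 1 ∧
    t * e * t⁻¹ = e⁻¹ ∧ t * f * t⁻¹ = f⁻¹ ∧ x ^ 5 = 1 ∧ x ≠ 1 ∧ k * x * k⁻¹ = x ^ 2 := by
  refine ⟨⟨swap 0 1 * swap 1 2, ?_⟩, ⟨swap 3 4 * swap 4 5, ?_⟩, ⟨swap 0 1 * swap 3 4, ?_⟩,
    ⟨swap 0 1 * swap 1 2 * swap 2 3 * swap 3 4, ?_⟩, ⟨swap 1 2 * swap 2 4 * swap 4 3 * swap 5 6, ?_⟩, ?_⟩
  all_goals first
    | exact Perm.mem_alternatingGroup.2 (by decide +kernel)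
    | decide +kernel

end Cfsg.Agent.PSLThree.Small
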