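import Mathlib
import Cfsg.Agent.Lib.PSLBinary.Basic
import Cfsg.Agent.Lib.PSLThree.Basic.Lift

/-!
# The Borel subgroup of `PSL₂` inside a group isomorphic to it
-/

set_option autoImplicit false
set_option linter.unusedSectionVars false

namespace Cfsg.Agent.PSLThree.Small

open Matrix
open scoped MatrixGroups
open Cfsg.Agent.Classical.GL2 (uniSL coe_uniSL)
open Cfsg.Agent.PSLBinary (diag coe_diag)

/-- the unipotent subgroup of `PSL₂` with the squares of the torus acting on it -/
structure BorelData (K : Type*) [Field K] (N : Type*) [Group N] where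
  u : K → N
  add : ∀ b c, u (b + c) = u b * u c
  eq_zero : ∀ b, u b = 1 → b = 0
  torus : ∀ a : K, a ≠ 0 → ∃ k : N, ∀ b, k * u b * k⁻¹ = u (a ^ 2 * b)

namespace BorelData

variable {K : Type*} [Field K] {N : Type*} [Group N] (B : BorelData K N)

theorem zero : B.u 0 = 1 := by simpa using B.add 0 0

theorem nsmul (n : ℕ) (b : K) : B.u ((n : K) * b) = B.u b ^ n := by
  induction n with
  | zero => simp [B.zero]
  | succ n ih => rw [Nat.cast_succ, add_mul, one_mul, B.add, ih, pow_succ]

theorem neg (b : K) : B.u (-b) = (B.u b)⁻¹ :=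
  eq_inv_of_mul_eq_one_left (by rw [← B.add, neg_add_cancel, B.zero])

theorem comm (b c : K) : Commute (B.u b) (B.u c) := by
  show B.u b * B.u c = B.u c * B.u b
  rw [← B.add, ← B.add, add_comm]

theorem pow_char (n : ℕ) [CharP K n] (b : K) : B.u b ^ n = 1 := by
  rw [← B.nsmul, CharP.cast_eq_zero, zero_mul, B.zero]

end BorelData

theorem exists_borel {K : Type*} [Field K] [Fintype K] {N : Type*} [Group N]
    (e : N ≃* Matrix.ProjectiveSpecialLinearGroup (Fin 2) K) : Nonempty (BorelData K N) := by
  refine ⟨⟨fun b => e.symm (Forms.KleinPSL.pi K (uniSL b)), fun b c => ?_, fun b hb => ?_, fun a ha => ?_⟩⟩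
  · rw [← map_mul, ← map_mul, Classical.GL2.uniSL_mul]
  · have h1 : Forms.KleinPSL.pi K (uniSL b) = 1 := by simpa using congrArg e hb
    rcases Forms.KleinPSL.pi_eq_one.1 h1 with h | h
    all_goals
      have h01 := congrArg (fun X : SL(2, K) => (X : Matrix (Fin 2) (Fin 2) K) 0 1) h
      simpa [coe_uniSL] using h01
  · refine ⟨e.symm (Forms.KleinPSL.pi K (diag (Units.mk0 a ha))), fun b => ?_⟩
    rw [← map_inv, ← map_mul, ← map_mul, ← map_inv, ← map_mul, ← map_mul]
    congr 2
    apply PSLBinary.sl2_ext <;>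
      simp [Matrix.SpecialLinearGroup.coe_mul, PSLBinary.coe_inv_two, coe_diag, coe_uniSL, Matrix.mul_apply,
        Fin.sum_univ_two, ha]
    field_simp

end Cfsg.Agent.PSLThree.Small
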