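import Mathlib
import Cfsg.Agent.Lib.PSLThree.Basic.Frame
import Cfsg.Agent.Lib.PSLThree.Basic.Lift
import Cfsg.Agent.Lib.PSLThree.Small.Borel

/-!
# Lifting the unipotent subgroup of `PSL₂`; intertwining diagonal matrices
-/

set_option autoImplicit false
set_option linter.unusedSectionVars false

namespace Cfsg.Agent.PSLThree.Small

open Matrix

variable {F : Type*} [Field F] {G : Subgroup (GL (Fin 3) F)}

local notation "GL3" => GL (Fin 3) F
local notation "Fb" => AlgebraicClosure F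
local notation "Sc" => Cfsg.Geo.scalars (Fin 3) F
local notation "MatB" => Matrix (Fin 3) (Fin 3) (AlgebraicClosure F)

/-- the scalars of `G` are trivial -/
def NoScalar (G : Subgroup (GL (Fin 3) F)) : Prop := ∀ x ∈ G, x ∈ Cfsg.Geo.scalars (Fin 3) F → x = 1

theorem scalar_root (hG : G ≤ Cfsg.Geo.specialLinear (Fin 3) F) {x : GL3} (hx : x ∈ G) (hs : x ∈ Sc) :
    ∃ c : F, (x : Matrix (Fin 3) (Fin 3) F) = c • 1 ∧ c ^ 3 = 1 := by
  obtain ⟨c, hc⟩ := (Cfsg.Geo.mem_scalars_iff x).1 hs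
  refine ⟨c, hc, ?_⟩
  have hd := det_eq_one hG hx
  rwa [hc, Matrix.det_smul, Matrix.det_one, mul_one, Fintype.card_fin] at hd

theorem noScalar_of_three (hG : G ≤ Cfsg.Geo.specialLinear (Fin 3) F) [CharP F 3] : NoScalar G := by
  intro x hx hs
  obtain ⟨c, hc, hc3⟩ := scalar_root hG hx hs
  haveI := Fact.mk Nat.prime_three
  have h0 : (c - 1) ^ 3 = 0 := by rw [sub_pow_char, hc3, one_pow, sub_self]
  refine Units.ext ?_
  rw [hc, sub_eq_zero.1 (pow_eq_zero_iff (three_ne_zero) |>.1 h0), one_smul, Units.val_one]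

theorem noScalar_of_card [Fintype F] (hG : G ≤ Cfsg.Geo.specialLinear (Fin 3) F)
    (h : Fintype.card F % 3 ≠ 1) : NoScalar G := by
  intro x hx hs
  obtain ⟨c, hc, hc3⟩ := scalar_root hG hx hs
  refine Units.ext ?_
  rw [hc, Units.val_one]
  suffices c = 1 by rw [this, one_smul]
  by_contra h1
  have hc0 : c ≠ 0 := fun e => by simp [e] at hc3
  have h3 : orderOf c = 3 := by
    haveI := Fact.mk Nat.prime_three
    exact orderOf_eq_prime hc3 h1
  have hd := orderOf_dvd_of_pow_eq_one (FiniteField.pow_card_sub_one_eq_one c hc0)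
  rw [h3] at hd
  have := Fintype.card_pos (α := F)
  omega

/-- unique lifts of exponent `n` -/
theorem lift_unique' (hG : G ≤ Cfsg.Geo.specialLinear (Fin 3) F) {n : ℕ} (hn : n.Coprime 3 ∨ NoScalar G)
    {g h : GL3} (hg : g ∈ G) (hh : h ∈ G) (hgn : g ^ n = 1) (hhn : h ^ n = 1) (hs : g⁻¹ * h ∈ Sc) : g = h := by
  rcases hn with hn | hn
  · exact lift_unique hG hn hg hh hgn hhn hs
  · exact inv_mul_eq_one.1 (hn _ (mul_mem (inv_mem hg) hh) hs)

theorem exists_lift' (hG : G ≤ Cfsg.Geo.specialLinear (Fin 3) F) {n : ℕ} (hn : n.Coprime 3 ∨ NoScalar G)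
    {x : Bar G} (hx : x ^ n = 1) : ∃ (g : GL3) (hg : g ∈ G), g ^ n = 1 ∧ ((⟨g, hg⟩ : G) : Bar G) = x := by
  rcases hn with hn | hn
  · exact exists_lift hG hn hx
  · obtain ⟨g, hg, rfl⟩ := exists_rep x
    exact ⟨g, hg, hn _ (pow_mem hg n) ((mk_eq_one (hg := pow_mem hg n)).1 hx), rfl⟩

/-- the lift of the unipotent subgroup -/
structure Sect {K : Type*} [Field K] (B : BorelData K (Bar G)) (n : ℕ) where
  g : K → GL (Fin 3) F
  mem : ∀ b, g b ∈ G
  pow : ∀ b, g b ^ n = 1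
  img : ∀ b, ((⟨g b, mem b⟩ : G) : Bar G) = B.u b
  add : ∀ b c, g (b + c) = g b * g c
  eq_zero : ∀ b, g b = 1 → b = 0
  torus : ∀ a : K, a ≠ 0 → ∃ k ∈ G, ∀ b, k * g b * k⁻¹ = g (a ^ 2 * b)

theorem exists_sect (hG : G ≤ Cfsg.Geo.specialLinear (Fin 3) F) {n : ℕ} (hn : n.Coprime 3 ∨ NoScalar G)
    {K : Type*} [Field K] [CharP K n] (B : BorelData K (Bar G)) : Nonempty (Sect B n) := by
  choose g hg hgn hgu using fun b => exists_lift' hG hn (B.pow_char n b)
  have hconj : ∀ {k : GL3} (hk : k ∈ G) {b c : K},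
      ((⟨k, hk⟩ : G) : Bar G) * B.u b * (((⟨k, hk⟩ : G) : Bar G))⁻¹ = B.u c → k * g b * k⁻¹ = g c := by
    intro k hk b c h
    refine lift_unique' hG hn (mul_mem (mul_mem hk (hg b)) (inv_mem hk)) (hg c) ?_ (hgn c) ?_
    · rw [conj_pow, hgn, mul_one, mul_inv_cancel]
    · refine (mk_eq (hg := mul_mem (mul_mem hk (hg b)) (inv_mem hk)) (hh := hg c)).1 ?_
      rw [hgu c, ← h, ← hgu b]
      rfl
  have hcomm : ∀ b c, Commute (g b) (g c) := fun b c =>
    mul_inv_eq_iff_eq_mul.1 (hconj (hg b) (by rw [hgu, (B.comm b c).eq, mul_inv_cancel_right]))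
  refine ⟨⟨g, hg, hgn, hgu, fun b c => ?_, fun b hb => B.eq_zero b ?_, fun a ha => ?_⟩⟩
  · refine lift_unique' hG hn (hg _) (mul_mem (hg b) (hg c)) (hgn _)
      (by rw [(hcomm b c).mul_pow, hgn, hgn, one_mul]) ?_
    refine (mk_eq (hg := hg _) (hh := mul_mem (hg b) (hg c))).1 ?_
    rw [hgu, B.add, ← hgu b, ← hgu c]
    rfl
  · rw [← hgu b, mk_eq_one, hb]
    exact one_mem _
  · obtain ⟨k, hk⟩ := B.torus a ha
    obtain ⟨k, hkG, rfl⟩ := exists_rep k
    exact ⟨k, hkG, fun b => hconj hkG (hk b)⟩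

/-- a matrix over the algebraic closure seen in a frame -/
noncomputable def inFrame (T : GL (Fin 3) (AlgebraicClosure F)) (g : GL (Fin 3) F) :
    Matrix (Fin 3) (Fin 3) (AlgebraicClosure F) :=
  ((T⁻¹ : GL (Fin 3) (AlgebraicClosure F)) : Matrix (Fin 3) (Fin 3) (AlgebraicClosure F)) * bar g *
    (T : Matrix (Fin 3) (Fin 3) (AlgebraicClosure F))

theorem inFrame_mul (T : GL (Fin 3) Fb) (g h : GL3) : inFrame T (g * h) = inFrame T g * inFrame T h := by
  simp only [inFrame, bar_mul, Matrix.mul_assoc, ← Matrix.mul_assoc (T : MatB), Units.mul_inv, Matrix.one_mul]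

theorem inFrame_one (T : GL (Fin 3) Fb) : inFrame T (1 : GL3) = 1 := by
  rw [inFrame, bar_one, Matrix.mul_one, Units.inv_mul]

theorem inFrame_injective (T : GL (Fin 3) Fb) : Function.Injective (inFrame (F := F) T) := fun g h e => by
  refine bar_injective ?_
  have := congrArg (fun M => (T : MatB) * M * ((T⁻¹ : GL (Fin 3) Fb) : MatB)) e
  simpa [inFrame, Matrix.mul_assoc] using this

theorem inFrame_of_bar {T : GL (Fin 3) Fb} {g : GL3} {μ : Fin 3 → Fb}
    (h : bar g = (T : MatB) * diagonal μ * ((T⁻¹ : GL (Fin 3) Fb) : MatB)) : inFrame T g = diagonal μ := by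
  rw [inFrame, h]; simp [Matrix.mul_assoc]

theorem exists_row_ne (T : GL (Fin 3) Fb) (k : GL3) (i : Fin 3) : ∃ j, inFrame T k i j ≠ 0 := by
  by_contra h
  push Not at h
  have h1 : (inFrame T k * inFrame T k⁻¹) i i = 1 := by
    rw [← inFrame_mul, mul_inv_cancel, inFrame_one, Matrix.one_apply_eq]
  rw [Matrix.mul_apply] at h1
  simp [h] at h1

theorem intertwine {M : Matrix (Fin 3) (Fin 3) Fb} {a b : Fin 3 → Fb}
    (h : M * diagonal a = diagonal b * M) {i j : Fin 3} (hij : M i j ≠ 0) : a j = b i := by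
  have := congrFun (congrFun h i) j
  rw [Matrix.mul_diagonal, Matrix.diagonal_mul] at this
  exact mul_left_cancel₀ hij (by rw [this, mul_comm])

theorem conj_intertwine {T : GL (Fin 3) Fb} {k g h : GL3} {a b : Fin 3 → Fb} (hg : inFrame T g = diagonal a)
    (hh : inFrame T h = diagonal b) (e : k * g * k⁻¹ = h) :
    inFrame T k * diagonal a = diagonal b * inFrame T k := by
  rw [← hg, ← hh, ← inFrame_mul, ← inFrame_mul, ← e, inv_mul_cancel_right]

theorem scalar_of_inFrame {T : GL (Fin 3) Fb} {g : GL3} {c : Fb} (h : inFrame T g = diagonal fun _ => c) :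
    g ∈ Sc := by
  have hb : bar g = c • (1 : MatB) := by
    have := congrArg (fun M => (T : MatB) * M * ((T⁻¹ : GL (Fin 3) Fb) : MatB)) h
    simpa [inFrame, Matrix.mul_assoc, ← Matrix.smul_one_eq_diagonal] using this
  have hne : (g : Matrix (Fin 3) (Fin 3) F) 0 0 ≠ 0 := fun h0 => by
    have h1 := congrFun (congrFun hb 0) 0
    simp [bar, h0] at h1
    rw [← h1, zero_smul] at hb
    have h2 := bar_mul g g⁻¹
    rw [mul_inv_cancel, bar_one, hb, Matrix.zero_mul] at h2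
    exact one_ne_zero h2
  refine (Cfsg.Geo.mem_scalars_iff g).2 ⟨Units.mk0 _ hne, ?_⟩
  rw [Units.val_mk0]
  ext i j
  refine (FaithfulSMul.algebraMap_injective F Fb) ?_
  have h1 := congrFun (congrFun hb i) j
  have h0 := congrFun (congrFun hb 0) 0
  simp only [bar, Matrix.map_apply, Matrix.smul_apply, smul_eq_mul] at h1 h0 ⊢
  rw [h1, map_mul, h0]
  by_cases hij : i = j
  · subst hij; simp
  · simp [Matrix.one_apply_ne hij]

end Cfsg.Agent.PSLThree.Small
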