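import Mathlib
import Cfsg.Agent.Lib.PSLThree.Basic.Eigen
import Cfsg.Agent.Lib.PSLThree.Small.Lifts

/-!
# `PSL₂` in cross characteristic: the field has 5, 7 or 9 elements
-/

set_option autoImplicit false
set_option linter.unusedSectionVars false

namespace Cfsg.Agent.PSLThree.Small

open Matrix

variable {F : Type*} [Field F] [Fintype F] {G : Subgroup (GL (Fin 3) F)}

local notation "GL3" => GL (Fin 3) F
local notation "Fb" => AlgebraicClosure F
local notation "Sc" => Cfsg.Geo.scalars (Fin 3) F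

/-- characters permuted by multiplication with squares -/
theorem squares_le {K M ι : Type*} [Field K] [Fintype K] [CommMonoid M] [Fintype ι] (χ₀ : K → M)
    (hadd : ∀ b c, χ₀ (b + c) = χ₀ b * χ₀ c) (h0 : χ₀ 0 = 1) (hne : ∃ b, χ₀ b ≠ 1) (χ : ι → K → M)
    (hperm : ∀ a : K, a ≠ 0 → ∃ j, ∀ b, χ₀ (a ^ 2 * b) = χ j b) :
    Fintype.card K ≤ 2 * Fintype.card ι + 1 := by
  classical
  choose j hj using fun a : Kˣ => hperm a a.ne_zero
  have hfib : ∀ i ∈ Finset.univ.image j, (Finset.univ.filter fun a : Kˣ => j a = i).card ≤ 2 := by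
    intro i hi
    obtain ⟨a, -, rfl⟩ := Finset.mem_image.1 hi
    refine le_trans (Finset.card_le_card (t := {a, -a}) fun a' ha' => ?_) Finset.card_le_two
    simp only [Finset.mem_filter, Finset.mem_univ, true_and] at ha'
    simp only [Finset.mem_insert, Finset.mem_singleton]
    by_contra hcon
    push Not at hcon
    have hd : (a' : K) ^ 2 - (a : K) ^ 2 ≠ 0 := fun h => by
      rcases sq_eq_sq_iff_eq_or_eq_neg.1 (sub_eq_zero.1 h) with e | e
      · exact hcon.1 (Units.ext e)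
      · exact hcon.2 (Units.ext (by rw [Units.val_neg]; exact e))
    obtain ⟨b, hb⟩ := hne
    refine hb ?_
    set c := b / ((a' : K) ^ 2 - (a : K) ^ 2) with hc
    have hb' : (a' : K) ^ 2 * c = b + (a : K) ^ 2 * c := by rw [hc]; field_simp; ring
    have hinv : χ₀ ((a : K) ^ 2 * c) * χ₀ (-((a : K) ^ 2 * c)) = 1 := by rw [← hadd, add_neg_cancel, h0]
    calc χ₀ b = χ₀ b * (χ₀ ((a : K) ^ 2 * c) * χ₀ (-((a : K) ^ 2 * c))) := by rw [hinv, mul_one]
      _ = χ₀ ((a' : K) ^ 2 * c) * χ₀ (-((a : K) ^ 2 * c)) := by rw [hb', hadd, mul_assoc]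
      _ = 1 := by rw [hj a', ha', ← hj a, hinv]
  have h1 := Finset.card_le_mul_card_image (f := j) Finset.univ 2 hfib
  have h2 : (Finset.univ.image j).card ≤ Fintype.card ι := Finset.card_le_univ _
  rw [Finset.card_univ, Fintype.card_units] at h1
  omega

theorem three_ne (hF3 : ((3 : ℕ) : F) ≠ 0) : ((9 : ℕ) : F) ≠ 0 := by
  rw [show (9 : ℕ) = 3 * 3 from rfl, Nat.cast_mul]; exact mul_ne_zero hF3 hF3

/-- two non-commuting lifts of commuting elements: only scalars centralise both -/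
theorem scalar_of_comm_pair (hG : G ≤ Cfsg.Geo.specialLinear (Fin 3) F) (hF3 : ((3 : ℕ) : F) ≠ 0)
    {e f s : GL3} (he : e ^ 9 = 1) (hs : s ∈ G) (hsc : s ∈ Sc) (hs1 : s ≠ 1) (hef : f * e * f⁻¹ = s * e)
    {x : GL3} (hxe : Commute x e) (hxf : Commute x f) : x ∈ Sc := by
  obtain ⟨T, hT⟩ := exists_frame {e} (by rintro g rfl h rfl; exact Commute.refl _)
    (by rintro g rfl; exact ⟨9, three_ne hF3, he⟩)
  obtain ⟨μ, hμ⟩ := hT e rfl
  have hμ' := inFrame_of_bar hμ
  obtain ⟨c, hc, hc3⟩ := scalar_root hG hs hsc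
  set w : Fb := algebraMap F Fb c with hw
  have hw3 : w ^ 3 = 1 := by rw [hw, ← map_pow, hc3, map_one]
  have hw1 : w ≠ 1 := fun h => hs1 (Units.ext (by
    rw [hc, Units.val_one, (FaithfulSMul.algebraMap_injective F Fb) (h.trans (map_one _).symm), one_smul]))
  have hse : inFrame T (s * e) = diagonal fun i => w * μ i := by
    have hbs : bar s = w • (1 : Matrix (Fin 3) (Fin 3) Fb) := by
      ext i j
      simp only [bar, Matrix.map_apply, hc, Matrix.smul_apply, smul_eq_mul, map_mul, hw]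
      by_cases hij : i = j
      · subst hij; simp
      · simp [Matrix.one_apply_ne hij]
    have hs' : inFrame T s = w • (1 : Matrix (Fin 3) (Fin 3) Fb) := by
      rw [inFrame, hbs, Matrix.mul_smul, Matrix.mul_one, Matrix.smul_mul, Units.inv_mul]
    rw [inFrame_mul, hs', hμ', Matrix.smul_mul, Matrix.one_mul, ← Matrix.diagonal_smul]
    rfl
  have hμ0 : ∀ i, μ i ≠ 0 := fun i h => by
    have h9 := congrArg (fun M => M i i) (show diagonal μ ^ 9 = 1 by
      rw [← hμ', ← inFrame_one T, ← he]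
      simp only [pow_succ, pow_zero, inFrame_one, one_mul, inFrame_mul])
    simp [Matrix.diagonal_pow, h] at h9
  choose σ hσ using exists_row_ne T f
  have hst : ∀ i, μ (σ i) = w * μ i := fun i => intertwine (conj_intertwine hμ' hse hef) (hσ i)
  have hne1 : ∀ i, σ i ≠ i := fun i h => by
    have := hst i
    rw [h] at this
    exact hw1 ((mul_eq_right₀ (hμ0 i)).1 this.symm)
  have hne2 : ∀ i, σ (σ i) ≠ i := fun i h => by
    have h' := hst (σ i)
    rw [h, hst i, ← mul_assoc] at h'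
    have hww : w * w = 1 := (mul_eq_right₀ (hμ0 i)).1 h'.symm
    exact hw1 (by rw [← hw3, pow_three, hww, mul_one])
  have h1 := hne1; have h2 := hne2
  have hcov : ∀ i j : Fin 3, j = i ∨ j = σ i ∨ j = σ (σ i) := fun i j => by
    have a := h1 i; have b := h1 (σ i); have c := h2 i
    omega
  have hinj : Function.Injective μ := fun a b hab => by
    rcases hcov a b with h | h | h
    · exact h.symm
    · rw [h, hst] at hab
      exact absurd ((mul_eq_right₀ (hμ0 a)).1 hab.symm) hw1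
    · rw [h, hst, hst, ← mul_assoc] at hab
      have hww : w * w = 1 := (mul_eq_right₀ (hμ0 a)).1 hab.symm
      exact absurd (by rw [← hw3, pow_three, hww, mul_one] : w = 1) hw1
  have hxd : ∀ i j, i ≠ j → inFrame T x i j = 0 := fun i j hij => by
    by_contra hne
    exact hij (hinj (intertwine (by
      rw [← hμ', ← inFrame_mul, ← inFrame_mul, hxe.eq]) hne)).symm
  have hdiag : inFrame T x = diagonal fun i => inFrame T x i i := by
    ext i j
    by_cases hij : i = j
    · subst hij; simp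
    · rw [hxd i j hij, Matrix.diagonal_apply_ne _ hij]
  have hd : ∀ i, inFrame T x (σ i) (σ i) = inFrame T x i i := fun i => by
    have h : inFrame T f * diagonal (fun i => inFrame T x i i) =
        diagonal (fun i => inFrame T x i i) * inFrame T f := by
      rw [← hdiag, ← inFrame_mul, ← inFrame_mul, hxf.eq]
    exact intertwine h (hσ i)
  refine scalar_of_inFrame (T := T) (c := inFrame T x 0 0) ?_
  rw [hdiag]
  congr 1
  funext i
  simp only [Matrix.diagonal_apply_eq]
  rcases hcov 0 i with h | h | h <;> rw [h]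
  · exact hd 0
  · rw [hd, hd]

theorem card_le_seven (hG : G ≤ Cfsg.Geo.specialLinear (Fin 3) F) {l : ℕ} [Fact l.Prime] (hl3 : l ≠ 3)
    (hFl : (l : F) ≠ 0) {K : Type*} [Field K] [Fintype K] [CharP K l] (B : BorelData K (Bar G)) :
    Fintype.card K ≤ 7 := by
  obtain ⟨S⟩ := exists_sect hG (Or.inl ((Nat.coprime_primes Fact.out Nat.prime_three).2 hl3)) B
  obtain ⟨T, hT⟩ := exists_frame (Set.range S.g)
    (by rintro _ ⟨b, rfl⟩ _ ⟨c, rfl⟩; show _ = _; rw [← S.add, ← S.add, add_comm])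
    (by rintro _ ⟨b, rfl⟩; exact ⟨l, hFl, S.pow b⟩)
  choose μ hμ using fun b => hT (S.g b) ⟨b, rfl⟩
  have hf := fun b => inFrame_of_bar (hμ b)
  have hadd : ∀ b c i, μ (b + c) i = μ b i * μ c i := fun b c i => by
    have h := hf (b + c)
    rw [S.add, inFrame_mul, hf, hf, Matrix.diagonal_mul_diagonal] at h
    exact (congrFun (Matrix.diagonal_injective h) i).symm
  have hg0 : S.g 0 = 1 := by simpa using S.add 0 0
  have h0 : ∀ i, μ 0 i = 1 := fun i => by
    have h := hf 0
    rw [hg0, inFrame_one, ← Matrix.diagonal_one] at h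
    exact (congrFun (Matrix.diagonal_injective h) i).symm
  obtain ⟨i, hi⟩ : ∃ i, μ 1 i ≠ 1 := by
    by_contra h
    push Not at h
    refine one_ne_zero (S.eq_zero 1 (inFrame_injective T ?_))
    rw [hf, inFrame_one, funext h, Matrix.diagonal_one]
  have := squares_le (fun b => μ b i) (fun b c => hadd b c i) (h0 i) ⟨1, hi⟩ (fun j b => μ b j) fun a ha => by
    obtain ⟨k, -, hk⟩ := S.torus a ha
    obtain ⟨j, hj⟩ := exists_row_ne T k i
    exact ⟨j, fun b => (intertwine (conj_intertwine (hf b) (hf _) (hk b)) hj).symm⟩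
  rw [Fintype.card_fin] at this
  exact this

theorem card_scalars_le (hG : G ≤ Cfsg.Geo.specialLinear (Fin 3) F) :
    Nat.card {x : GL3 // x ∈ G ∧ x ∈ Sc} ≤ 3 := by
  classical
  let φ : {x : GL3 // x ∈ G ∧ x ∈ Sc} → (Polynomial.nthRootsFinset 3 (1 : F) : Finset F) := fun x =>
    ⟨(x.1 : Matrix (Fin 3) (Fin 3) F) 0 0, by
      obtain ⟨c, hc, hc3⟩ := scalar_root hG x.2.1 x.2.2
      rw [Polynomial.mem_nthRootsFinset (by norm_num)]
      simp [hc, hc3]⟩
  refine (Nat.card_le_card_of_injective φ fun x y h => ?_).trans ?_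
  · obtain ⟨c, hc, -⟩ := scalar_root hG x.2.1 x.2.2
    obtain ⟨d, hd, -⟩ := scalar_root hG y.2.1 y.2.2
    have h' := congrArg Subtype.val h
    simp only [φ, hc, hd, Matrix.smul_apply, Matrix.one_apply_eq, smul_eq_mul, mul_one] at h'
    exact Subtype.ext (Units.ext (by rw [hc, hd, h']))
  · rw [Nat.card_eq_fintype_card, Fintype.card_coe, Polynomial.nthRootsFinset_def]
    exact (Multiset.toFinset_card_le _).trans (Polynomial.card_nthRoots _ _)

theorem card_le_nineteen (hG : G ≤ Cfsg.Geo.specialLinear (Fin 3) F) (hF3 : ((3 : ℕ) : F) ≠ 0)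
    {K : Type*} [Field K] [Fintype K] [CharP K 3] (B : BorelData K (Bar G)) : Fintype.card K ≤ 19 := by
  classical
  choose g hg hgu using fun b => exists_rep (B.u b)
  have hpow : ∀ b, g b ^ 9 = 1 := fun b => by
    have h : g b ^ 3 ∈ Sc := (mk_eq_one (hg := pow_mem (hg b) 3)).1 (by
      show ((⟨g b, hg b⟩ : G) : Bar G) ^ 3 = 1
      rw [hgu, B.pow_char 3])
    rw [show 9 = 3 * 3 from rfl, pow_mul, scalar_cube hG (pow_mem (hg b) 3) h]
  have hsc : ∀ b c, g b * g c * (g b)⁻¹ * (g c)⁻¹ ∈ Sc := fun b c =>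
    (mk_eq_one (hg := mul_mem (mul_mem (mul_mem (hg b) (hg c)) (inv_mem (hg b))) (inv_mem (hg c)))).1 (by
      show ((⟨g b, hg b⟩ : G) : Bar G) * ((⟨g c, hg c⟩ : G) : Bar G) * ((⟨g b, hg b⟩ : G) : Bar G)⁻¹ *
        ((⟨g c, hg c⟩ : G) : Bar G)⁻¹ = 1
      rw [hgu, hgu, (B.comm b c).eq]; simp)
  by_cases hcomm : ∀ b c, Commute (g b) (g c)
  · obtain ⟨T, hT⟩ := exists_frame (Set.range g)
      (by rintro _ ⟨b, rfl⟩ _ ⟨c, rfl⟩; exact hcomm b c)
      (by rintro _ ⟨b, rfl⟩; exact ⟨9, three_ne hF3, hpow b⟩)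
    choose μ hμ using fun b => hT (g b) ⟨b, rfl⟩
    have hf := fun b => inFrame_of_bar (hμ b)
    have hμ0 : ∀ b i, μ b i ≠ 0 := fun b i h => by
      have h9 := congrArg (fun M => M i i) (show diagonal (μ b) ^ 9 = 1 by
        rw [← hf, ← inFrame_one T, ← hpow b]
        simp only [pow_succ, pow_zero, inFrame_one, one_mul, inFrame_mul])
      simp [Matrix.diagonal_pow, h] at h9
    have hscal : ∀ {s : GL3}, s ∈ Sc → ∃ σ : Fb, σ ≠ 0 ∧ inFrame T s = σ • (1 : Matrix (Fin 3) (Fin 3) Fb) := by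
      intro s hs
      obtain ⟨c, hc⟩ := (Cfsg.Geo.mem_scalars_iff s).1 hs
      refine ⟨algebraMap F Fb c, (map_ne_zero _).2 c.ne_zero, ?_⟩
      have hbs : bar s = algebraMap F Fb c • (1 : Matrix (Fin 3) (Fin 3) Fb) := by
        ext i j
        by_cases hij : i = j
        · subst hij; simp [bar, hc]
        · simp [bar, hc, Matrix.one_apply_ne hij]
      rw [inFrame, hbs, Matrix.mul_smul, Matrix.mul_one, Matrix.smul_mul, Units.inv_mul]
    have hmul : ∀ b c, ∃ σ : Fb, σ ≠ 0 ∧ ∀ i, μ (b + c) i = μ b i * μ c i * σ := fun b c => by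
      have h : (g b * g c)⁻¹ * g (b + c) ∈ Sc :=
        (mk_eq (hg := mul_mem (hg b) (hg c)) (hh := hg _)).1 (by
          rw [hgu (b + c), B.add, ← hgu b, ← hgu c]; rfl)
      obtain ⟨σ, hσ, hs⟩ := hscal h
      refine ⟨σ, hσ, fun i => ?_⟩
      have e : inFrame T (g (b + c)) = inFrame T (g b * g c) * inFrame T ((g b * g c)⁻¹ * g (b + c)) := by
        rw [← inFrame_mul, mul_inv_cancel_left]
      rw [hs, inFrame_mul, hf, hf, hf, Matrix.diagonal_mul_diagonal, Matrix.mul_smul, Matrix.mul_one,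
        ← Matrix.diagonal_smul] at e
      rw [congrFun (Matrix.diagonal_injective e) i]
      simp [mul_comm]
    let χ : Fin 3 × Fin 3 → K → Fb := fun p b => μ b p.1 / μ b p.2
    have hadd : ∀ p b c, χ p (b + c) = χ p b * χ p c := fun p b c => by
      obtain ⟨σ, hσ, h⟩ := hmul b c
      simp only [χ, h]
      field_simp
    have hχ0 : ∀ p, χ p 0 = 1 := fun p => by
      have h := hadd p 0 0
      rw [add_zero] at h
      exact (mul_eq_left₀ (div_ne_zero (hμ0 0 _) (hμ0 0 _))).1 h.symm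
    obtain ⟨p, hp⟩ : ∃ p, χ p 1 ≠ 1 := by
      by_contra h
      push Not at h
      refine one_ne_zero (B.eq_zero 1 ?_)
      rw [← hgu 1, mk_eq_one]
      refine scalar_of_inFrame (T := T) (c := μ 1 0) ?_
      rw [hf]
      congr 1
      funext i
      exact (div_eq_one_iff_eq (hμ0 1 0)).1 (h (i, 0))
    have := squares_le (χ p) (hadd p) (hχ0 p) ⟨1, hp⟩ χ fun a ha => by
      obtain ⟨k, hk⟩ := B.torus a ha
      obtain ⟨k, hkG, rfl⟩ := exists_rep k
      obtain ⟨j₁, hj₁⟩ := exists_row_ne T k p.1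
      obtain ⟨j₂, hj₂⟩ := exists_row_ne T k p.2
      refine ⟨(j₁, j₂), fun b => ?_⟩
      have h : (g (a ^ 2 * b))⁻¹ * (k * g b * k⁻¹) ∈ Sc :=
        (mk_eq (hg := hg _) (hh := mul_mem (mul_mem hkG (hg b)) (inv_mem hkG))).1 (by
          rw [hgu, ← hk b, ← hgu b]; rfl)
      obtain ⟨σ, hσ, hs⟩ := hscal h
      have e : inFrame T (k * g b * k⁻¹) = diagonal fun i => μ (a ^ 2 * b) i * σ := by
        rw [← mul_inv_cancel_left (g (a ^ 2 * b)) (k * g b * k⁻¹), inFrame_mul, hs, hf, Matrix.mul_smul,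
          Matrix.mul_one, ← Matrix.diagonal_smul]
        simp [mul_comm, Pi.smul_def]
      have e1 := intertwine (conj_intertwine (hf b) e rfl) hj₁
      have e2 := intertwine (conj_intertwine (hf b) e rfl) hj₂
      simp only [χ, e1, e2]
      rw [mul_div_mul_right _ _ hσ]
    rw [Fintype.card_prod, Fintype.card_fin] at this
    exact this
  · push Not at hcomm
    obtain ⟨b₀, c₀, hne⟩ := hcomm
    set s := g c₀ * g b₀ * (g c₀)⁻¹ * (g b₀)⁻¹ with hs
    have hs1 : s ≠ 1 := fun h => hne (mul_inv_eq_iff_eq_mul.1 (mul_inv_eq_one.1 h)).symm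
    let ψ : K → {x : GL3 // x ∈ G ∧ x ∈ Sc} × {x : GL3 // x ∈ G ∧ x ∈ Sc} := fun b =>
      (⟨_, mul_mem (mul_mem (mul_mem (hg b) (hg b₀)) (inv_mem (hg b))) (inv_mem (hg b₀)), hsc b b₀⟩,
       ⟨_, mul_mem (mul_mem (mul_mem (hg b) (hg c₀)) (inv_mem (hg b))) (inv_mem (hg c₀)), hsc b c₀⟩)
    have hinj : Function.Injective ψ := fun b b' h => by
      have he := congrArg (fun q => (q.1 : GL3)) h
      have hf := congrArg (fun q => (q.2 : GL3)) h
      simp only [ψ, mul_left_inj] at he hf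
      have key : ∀ {y : GL3}, g b * y * (g b)⁻¹ = g b' * y * (g b')⁻¹ → Commute ((g b')⁻¹ * g b) y := by
        intro y hy
        show _ = _
        calc (g b')⁻¹ * g b * y = (g b')⁻¹ * (g b * y * (g b)⁻¹) * g b := by group
          _ = (g b')⁻¹ * (g b' * y * (g b')⁻¹) * g b := by rw [hy]
          _ = _ := by group
      have hmem := scalar_of_comm_pair hG hF3 (hpow b₀) (mul_mem (mul_mem (mul_mem (hg c₀) (hg b₀))
        (inv_mem (hg c₀))) (inv_mem (hg b₀))) (hsc c₀ b₀) hs1 (by rw [inv_mul_cancel_right]) (key he) (key hf)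
      have h2 := (mk_eq (hg := hg b') (hh := hg b)).2 hmem
      rw [hgu, hgu] at h2
      refine sub_eq_zero.1 (B.eq_zero (b - b') ?_)
      rw [sub_eq_add_neg, B.add, B.neg, h2, mul_inv_cancel]
    have h1 := Nat.card_le_card_of_injective ψ hinj
    have h2 := card_scalars_le hG
    rw [Nat.card_eq_fintype_card, Nat.card_prod] at h1
    nlinarith

/-- the cross-characteristic bound -/
theorem cross_card (p : ℕ) [Fact p.Prime] [CharP F p] (hG : G ≤ Cfsg.Geo.specialLinear (Fin 3) F)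
    {l : ℕ} [Fact l.Prime] (hlp : l ≠ p) {K : Type*} [Field K] [Fintype K] [CharP K l]
    (hodd : Odd (Fintype.card K)) (h3 : 3 < Fintype.card K) (B : BorelData K (Bar G)) :
    Fintype.card K = 5 ∨ Fintype.card K = 7 ∨ Fintype.card K = 9 := by
  have hlF : (l : F) ≠ 0 := fun h => hlp
    ((Nat.prime_dvd_prime_iff_eq Fact.out Fact.out).1 ((CharP.cast_eq_zero_iff F p l).1 h)).symm
  obtain ⟨e, hl, he⟩ := FiniteField.card K l
  have hmod : Fintype.card K % 2 = 1 := Nat.odd_iff.1 hodd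
  by_cases hl3 : l = 3
  · subst hl3
    have h19 := card_le_nineteen hG hlF B
    have he2 : (e : ℕ) < 3 := by
      by_contra h
      have := Nat.pow_le_pow_right (show 1 ≤ 3 by norm_num) (Nat.le_of_not_lt h)
      rw [← he] at this
      omega
    rcases (show (e : ℕ) = 1 ∨ (e : ℕ) = 2 by have := e.pos; omega) with h | h <;> rw [h] at he <;>
      norm_num at he <;> omega
  · have := card_le_seven hG hl3 hlF B
    omega

end Cfsg.Agent.PSLThree.Small
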