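import Mathlib
import Cfsg.Agent.Lib.PSLThree.Basic.Unip
import Cfsg.Agent.Lib.PSLThree.Small.Lifts

/-!
# `PSL₂` in its own characteristic without transvections: the field embeds
-/

set_option autoImplicit false
set_option linter.unusedSectionVars false

namespace Cfsg.Agent.PSLThree.Small

open Matrix

variable {F : Type*} [Field F] {G : Subgroup (GL (Fin 3) F)}

local notation "Mat" => Matrix (Fin 3) (Fin 3) F

/-- what commutes with a regular nilpotent matrix is a polynomial in it -/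
theorem commutant {N X : Mat} (h3 : N ^ 3 = 0) (h2 : N * N ≠ 0) (hc : N * X = X * N) :
    ∃ c₀ c₁ c₂ : F, X = c₀ • (1 : Mat) + c₁ • N + c₂ • (N * N) := by
  obtain ⟨v, hv⟩ : ∃ v, N *ᵥ (N *ᵥ v) ≠ 0 := by
    by_contra h
    push Not at h
    exact h2 (Matrix.ext_iff_mulVec.2 fun x => by rw [← Matrix.mulVec_mulVec, h, Matrix.zero_mulVec])
  have hz : N *ᵥ (N *ᵥ (N *ᵥ v)) = 0 := by
    rw [Matrix.mulVec_mulVec, Matrix.mulVec_mulVec, ← pow_three', h3, Matrix.zero_mulVec]
  have hli : LinearIndependent F ![v, N *ᵥ v, N *ᵥ (N *ᵥ v)] := by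
    refine Fintype.linearIndependent_iff.2 fun c hcc => ?_
    simp only [Fin.sum_univ_three, Matrix.cons_val_zero, Matrix.cons_val_one, Matrix.cons_val_two,
      Matrix.tail_cons, Matrix.head_cons] at hcc
    have e2 := congrArg (fun y => N *ᵥ (N *ᵥ y)) hcc
    simp only [Matrix.mulVec_add, Matrix.mulVec_smul, hz, Matrix.mulVec_zero, smul_zero, add_zero] at e2
    have c0 := (smul_eq_zero.1 e2).resolve_right hv
    rw [c0, zero_smul, zero_add] at hcc
    have e1 := congrArg (fun y => N *ᵥ y) hcc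
    simp only [Matrix.mulVec_add, Matrix.mulVec_smul, hz, Matrix.mulVec_zero, smul_zero, add_zero] at e1
    have c1 := (smul_eq_zero.1 e1).resolve_right hv
    rw [c1, zero_smul, zero_add] at hcc
    intro i
    fin_cases i
    exacts [c0, c1, (smul_eq_zero.1 hcc).resolve_right hv]
  have hsp := hli.span_eq_top_of_card_eq_finrank (by simp)
  obtain ⟨c, hcv⟩ := (Submodule.mem_span_range_iff_exists_fun F).1 (hsp ▸ Submodule.mem_top : X *ᵥ v ∈ _)
  simp only [Fin.sum_univ_three, Matrix.cons_val_zero, Matrix.cons_val_one, Matrix.cons_val_two,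
    Matrix.tail_cons, Matrix.head_cons] at hcv
  refine ⟨c 0, c 1, c 2, ?_⟩
  set Y : Mat := c 0 • (1 : Mat) + c 1 • N + c 2 • (N * N) with hY
  have hYN : N * Y = Y * N := by simp [hY, mul_add, add_mul, mul_assoc]
  have h0 : X *ᵥ v = Y *ᵥ v := by
    rw [hY, Matrix.add_mulVec, Matrix.add_mulVec, Matrix.smul_mulVec, Matrix.smul_mulVec, Matrix.smul_mulVec,
      one_mulVec, ← Matrix.mulVec_mulVec, hcv]
  have hstep : ∀ w, X *ᵥ w = Y *ᵥ w → X *ᵥ (N *ᵥ w) = Y *ᵥ (N *ᵥ w) := fun w hw => by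
    rw [Matrix.mulVec_mulVec, ← hc, ← Matrix.mulVec_mulVec, hw, Matrix.mulVec_mulVec, hYN, ← Matrix.mulVec_mulVec]
  refine Matrix.ext_iff_mulVec.2 fun x => ?_
  obtain ⟨d, hd⟩ := (Submodule.mem_span_range_iff_exists_fun F).1 (hsp ▸ Submodule.mem_top : x ∈ _)
  simp only [Fin.sum_univ_three, Matrix.cons_val_zero, Matrix.cons_val_one, Matrix.cons_val_two,
    Matrix.tail_cons, Matrix.head_cons] at hd
  rw [← hd]
  simp only [Matrix.mulVec_add, Matrix.mulVec_smul, h0, hstep _ h0, hstep _ (hstep _ h0)]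

/-- the coordinate on the centraliser of a regular unipotent element -/
theorem unip_coord {p : ℕ} [Fact p.Prime] [CharP F p] {N : Mat} (h3 : N ^ 3 = 0) (h2 : N * N ≠ 0)
    {g : GL (Fin 3) F} (hg : g ^ p = 1) (hc : N * (g : Mat) = (g : Mat) * N) :
    ∃ a c : F, (g : Mat) - 1 = a • N + c • (N * N) := by
  obtain ⟨c₀, c₁, c₂, e⟩ := commutant h3 h2 hc
  have h0 : ((g : Mat) - 1) ^ 3 = 0 := sub_one_cube p (k := 1) (by rw [pow_one, hg])
  have hN3 : N * N * N = 0 := by rw [← pow_three', h3]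
  have e1 : ((g : Mat) - 1) * (N * N) = (c₀ - 1) • (N * N) := by
    rw [e]
    simp only [sub_mul, add_mul, Matrix.smul_mul, one_mul, ← mul_assoc, hN3, zero_mul, smul_zero, add_zero]
    rw [sub_smul, one_smul]
  have e3 : ((g : Mat) - 1) ^ 3 * (N * N) = (c₀ - 1) ^ 3 • (N * N) := by
    rw [pow_three, mul_assoc, mul_assoc, e1, Matrix.mul_smul, Matrix.mul_smul, e1, Matrix.mul_smul, e1,
      smul_smul, smul_smul, pow_three, mul_assoc]
  rw [h0, zero_mul] at e3
  have hc0 : c₀ = 1 := by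
    rcases smul_eq_zero.1 e3.symm with h | h
    · exact sub_eq_zero.1 (pow_eq_zero_iff three_ne_zero |>.1 h)
    · exact absurd h h2
  exact ⟨c₁, c₂, by rw [e, hc0, one_smul]; abel⟩

/-- the field of `PSL₂` embeds in `F` -/
theorem exists_embedding [Fintype F] (p : ℕ) [Fact p.Prime] [CharP F p] (hp : p ≠ 2)
    (hG : G ≤ Cfsg.Geo.specialLinear (Fin 3) F) (hT : ¬ HasTrv G) {K : Type*} [Field K] [Fintype K] [CharP K p]
    (B : BorelData K (Bar G)) : Nonempty (K →+* F) := by
  have hn : p.Coprime 3 ∨ NoScalar G := by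
    by_cases h : p = 3
    · subst h; exact Or.inr (noScalar_of_three hG)
    · exact Or.inl ((Nat.coprime_primes (Fact.out) Nat.prime_three).2 h)
  obtain ⟨S⟩ := exists_sect hG hn B
  set N : Mat := (S.g 1 : Mat) - 1 with hN
  have h3 : N ^ 3 = 0 := sub_one_cube p (k := 1) (by rw [pow_one, S.pow])
  have hsq : ∀ b : K, b ≠ 0 → ((S.g b : Mat) - 1) * ((S.g b : Mat) - 1) ≠ 0 := fun b hb h =>
    hT (hasTrv_of_sq_zero hG (S.mem b) (fun e => hb (S.eq_zero b e)) h)
  have h2 : N * N ≠ 0 := hsq 1 one_ne_zero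
  have hN3 : N * N * N = 0 := by rw [← pow_three', h3]
  have hcomm : ∀ b, N * (S.g b : Mat) = (S.g b : Mat) * N := fun b => by
    rw [hN, sub_mul, mul_sub, one_mul, mul_one, ← Units.val_mul, ← Units.val_mul, ← S.add, ← S.add, add_comm]
  choose a c hac using fun b => unip_coord h3 h2 (S.pow b) (hcomm b)
  have key : ∀ b, ((S.g b : Mat) - 1) * N = a b • (N * N) := fun b => by
    rw [hac, add_mul, Matrix.smul_mul, Matrix.smul_mul, hN3, smul_zero, add_zero]
  have uniq : ∀ {x y : F}, x • (N * N) = y • (N * N) → x = y := fun h => smul_left_injective F h2 h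
  have hadd : ∀ b d, a (b + d) = a b + a d := fun b d => uniq (by
    rw [← key, add_smul, S.add, Units.val_mul]
    have e : (S.g b : Mat) * (S.g d : Mat) - 1 =
        ((S.g b : Mat) - 1) + ((S.g d : Mat) - 1) + ((S.g b : Mat) - 1) * ((S.g d : Mat) - 1) := by
      simp [sub_mul, mul_sub]; abel
    rw [e, add_mul, add_mul, key b, key d, mul_assoc, key d, Matrix.mul_smul, ← mul_assoc, key b, Matrix.smul_mul,
      hN3, smul_zero, smul_zero, add_zero])
  have h1 : a 1 = 1 := uniq (by rw [← key, one_smul])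
  have h0 : a 0 = 0 := by simpa using hadd 0 0
  have htor : ∀ x b : K, a (x ^ 2 * b) = a (x ^ 2) * a b := by
    intro x b
    by_cases hx : x = 0
    · simp [hx, h0]
    obtain ⟨k, -, hk⟩ := S.torus x hx
    set s := x ^ 2
    have hconj : ∀ d, (S.g (s * d) : Mat) - 1 = (k : Mat) * ((S.g d : Mat) - 1) * ((k⁻¹ : GL (Fin 3) F) : Mat) := fun d => by
      rw [mul_sub, sub_mul, mul_one, Units.mul_inv, ← Units.val_mul, ← Units.val_mul, hk]
    have hkN : (k : Mat) * N * ((k⁻¹ : GL (Fin 3) F) : Mat) = a s • N + c s • (N * N) := by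
      rw [hN, ← hconj 1, mul_one, hac]
    refine uniq ?_
    rw [← key, hconj b, hac b, mul_add, add_mul, Matrix.mul_smul, Matrix.smul_mul, hkN, Matrix.mul_smul,
      Matrix.smul_mul, show (k : Mat) * (N * N) * ((k⁻¹ : GL (Fin 3) F) : Mat) =
        ((k : Mat) * N * ((k⁻¹ : GL (Fin 3) F) : Mat)) * ((k : Mat) * N * ((k⁻¹ : GL (Fin 3) F) : Mat)) by
        simp [mul_assoc, ← mul_assoc ((k⁻¹ : GL (Fin 3) F) : Mat)], hkN]
    simp only [add_mul, mul_add, Matrix.mul_smul, Matrix.smul_mul, ← mul_assoc, hN3, zero_mul, mul_zero,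
      smul_zero, add_zero, smul_smul]
    rw [mul_comm]
  have hmul : ∀ x y, a (x * y) = a x * a y := fun x y => by
    obtain ⟨s, t, hst⟩ : ∃ s t : K, s ^ 2 + t ^ 2 = x := by
      have hodd : Fintype.card K % 2 = 1 :=
        FiniteField.odd_card_of_char_ne_two (by rw [ringChar.eq K p]; exact hp)
      obtain ⟨s, t, hst⟩ := FiniteField.exists_root_sum_quadratic (R := K)
        (Polynomial.degree_X_pow 2) (Polynomial.degree_X_pow_sub_C (by norm_num) x) hodd
      refine ⟨s, t, ?_⟩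
      simp only [Polynomial.eval_sub, Polynomial.eval_pow, Polynomial.eval_X, Polynomial.eval_C] at hst
      linear_combination hst
    rw [← hst, add_mul, hadd, htor, htor, hadd, add_mul]
  exact ⟨{ toFun := a, map_one' := h1, map_mul' := hmul, map_zero' := h0, map_add' := hadd }⟩

end Cfsg.Agent.PSLThree.Small
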