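import Mathlib
import Cfsg.Agent.Lib.PSLThree.Basic.Eigen
import Cfsg.Agent.Lib.PSLThree.Basic.Lift

/-!
# Eigenvalues of canonical lifts of elements conjugate to one of their powers
-/

set_option autoImplicit false
set_option linter.unusedSectionVars false

namespace Cfsg.Agent.PSLThree.Small

open Matrix

variable {F : Type*} [Field F] [Fintype F] {G : Subgroup (GL (Fin 3) F)}

local notation "GL3" => GL (Fin 3) F
local notation "Fb" => AlgebraicClosure F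

/-- three eigenvalues of a real element of odd prime order -/
theorem eig_real {ℓ : ℕ} (hℓ : ℓ.Prime) (h2 : ℓ ≠ 2) {g : GL3} (hdet : (g : Matrix (Fin 3) (Fin 3) F).det = 1)
    (hF : (ℓ : F) ≠ 0) (hg : g ^ ℓ = 1) (h1 : g ≠ 1) (hr : eig g⁻¹ = eig g) :
    ∃ z : Fb, orderOf z = ℓ ∧ eig g = {z, z⁻¹, 1} := by
  obtain ⟨z, hz, hz1⟩ : ∃ z ∈ eig g, z ≠ 1 := by
    by_contra h; push Not at h; exact h1 (eq_one_of_eig hF hg h)
  have hzℓ := pow_eq_one_of_mem hF hg hz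
  haveI := Fact.mk hℓ
  have hord : orderOf z = ℓ := orderOf_eq_prime hzℓ hz1
  have hinv : g⁻¹ = g ^ (ℓ - 1) := by
    refine inv_eq_of_mul_eq_one_right ?_
    rw [← pow_succ', Nat.sub_add_cancel hℓ.one_le, hg]
  have hz' : z⁻¹ ∈ eig g := by
    rw [← hr, hinv, eig_pow hF hg, Multiset.mem_map]
    refine ⟨z, hz, eq_inv_of_mul_eq_one_left ?_⟩
    rw [← pow_succ, Nat.sub_add_cancel hℓ.one_le, hzℓ]
  have hne : z⁻¹ ≠ z := fun h => by
    have h3 : z ^ 2 = 1 := by rw [pow_two]; nth_rw 2 [← h]; exact mul_inv_cancel₀ (fun e => by simp [e, zero_pow hℓ.ne_zero] at hzℓ)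
    exact h2 ((Nat.prime_dvd_prime_iff_eq hℓ Nat.prime_two).1 (hord ▸ orderOf_dvd_of_pow_eq_one h3))
  obtain ⟨m, hm⟩ := Multiset.exists_cons_of_mem hz
  obtain ⟨m', hm'⟩ := Multiset.exists_cons_of_mem (s := m) (a := z⁻¹) (by
    rw [hm, Multiset.mem_cons] at hz'; exact hz'.resolve_left hne)
  obtain ⟨c, rfl⟩ := Multiset.card_eq_one.1 (show m'.card = 1 by
    have := card_eig g; rw [hm, hm', Multiset.card_cons, Multiset.card_cons] at this; omega)
  have hp := prod_eig g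
  rw [hdet, map_one, hm, hm', Multiset.prod_cons, Multiset.prod_cons, Multiset.prod_singleton,
    ← mul_assoc, mul_inv_cancel₀ (fun e => by simp [e, zero_pow hℓ.ne_zero] at hzℓ), one_mul] at hp
  exact ⟨z, hord, by rw [hm, hm', hp]; rfl⟩

/-- the canonical lift of an element conjugate to a power -/
theorem exists_lift_conj (hG : G ≤ Cfsg.Geo.specialLinear (Fin 3) F) {n : ℕ} (hn : n.Coprime 3)
    (hF : (n : F) ≠ 0) {x k : Bar G} (hx : x ^ n = 1) (h1 : x ≠ 1) {j : ℕ} (hk : k * x * k⁻¹ = x ^ j) :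
    ∃ g : GL3, (g : Matrix (Fin 3) (Fin 3) F).det = 1 ∧ g ^ n = 1 ∧ g ≠ 1 ∧ eig (g ^ j) = eig g := by
  obtain ⟨g, hg, hgn, rfl⟩ := exists_lift hG hn hx
  obtain ⟨c, hc, rfl⟩ := exists_rep k
  refine ⟨g, det_eq_one hG hg, hgn, fun e => h1 (mk_eq_one.2 (e ▸ one_mem _)), ?_⟩
  have hconj : c * g * c⁻¹ = g ^ j := by
    refine conj_lift hG hn hg (pow_mem hg j) hc hgn (by rw [← pow_mul, mul_comm, pow_mul, hgn, one_pow]) ?_
    refine (mk_eq (hg := mul_mem (mul_mem hc hg) (inv_mem hc)) (hh := pow_mem hg j)).1 ?_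
    exact hk
  rw [← hconj, eig_conj]

theorem frob_mem {g : GL3} {z : Fb} (hz : z ∈ eig g) : z ^ Fintype.card F ∈ eig g := by
  rw [← eig_frob g, Multiset.mem_map]
  exact ⟨z, hz, rfl⟩

/-- a real element of order five -/
theorem mod_five_of_real (hG : G ≤ Cfsg.Geo.specialLinear (Fin 3) F) (hF : ((5 : ℕ) : F) ≠ 0) {x k : Bar G}
    (hx : x ^ 5 = 1) (h1 : x ≠ 1) (hk : k * x * k⁻¹ = x⁻¹) :
    Fintype.card F % 5 = 1 ∨ Fintype.card F % 5 = 4 := by
  have hinv : x⁻¹ = x ^ 4 := inv_eq_of_mul_eq_one_right (by rw [← pow_succ', hx])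
  obtain ⟨g, hd, hgn, hg1, he⟩ := exists_lift_conj hG (by norm_num) hF hx h1 (hk.trans hinv)
  obtain ⟨z, hz, hm⟩ := eig_real (by norm_num) (by norm_num) hd hF hgn hg1 (by
    rw [show g⁻¹ = g ^ 4 from inv_eq_of_mul_eq_one_right (by rw [← pow_succ', hgn]), he])
  have h := frob_mem (g := g) (z := z) (by simp [hm])
  rw [hm] at h
  have hz5 : z ^ 5 = 1 := hz ▸ pow_orderOf_eq_one z
  simp only [Multiset.insert_eq_cons, Multiset.mem_cons, Multiset.mem_singleton] at h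
  rw [show z⁻¹ = z ^ 4 from inv_eq_of_mul_eq_one_right (by rw [← pow_succ', hz5])] at h
  rw [← pow_mod_orderOf z (Fintype.card F), hz] at h
  have hlt : Fintype.card F % 5 < orderOf z := by rw [hz]; exact Nat.mod_lt _ (by norm_num)
  rcases h with h | h | h
  · exact Or.inl (pow_injOn_Iio_orderOf hlt (by simp [hz]) (h.trans (pow_one z).symm))
  · exact Or.inr (pow_injOn_Iio_orderOf hlt (by simp [hz]) h)
  · have := pow_injOn_Iio_orderOf hlt (Set.mem_Iio.2 (hz ▸ (show 0 < 5 by norm_num))) (h.trans (pow_zero z).symm)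
    obtain ⟨p, hc⟩ := CharP.exists F
    obtain ⟨a, hp, ha⟩ := FiniteField.card F p
    have h5 : p = 5 := ((Nat.prime_dvd_prime_iff_eq (by norm_num) hp).1
      ((show Nat.Prime 5 by norm_num).dvd_of_dvd_pow (ha ▸ Nat.dvd_of_mod_eq_zero this))).symm
    exact absurd (by rw [← h5]; exact CharP.cast_eq_zero F p) hF

theorem squares_mem {ℓ : ℕ} [Fact ℓ.Prime] {g : GL3} (hF : (ℓ : F) ≠ 0) (hg : g ^ ℓ = 1) (h1 : g ≠ 1)
    (he : eig (g ^ 2) = eig g) :
    ∃ z : Fb, orderOf z = ℓ ∧ ∀ i : ℕ, z ^ 2 ^ i ∈ eig g := by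
  obtain ⟨z, hz, hz1⟩ : ∃ z ∈ eig g, z ≠ 1 := by
    by_contra h; push Not at h; exact h1 (eq_one_of_eig hF hg h)
  refine ⟨z, orderOf_eq_prime (pow_eq_one_of_mem hF hg hz) hz1, fun i => ?_⟩
  induction i with
  | zero => simpa using hz
  | succ i ih =>
    rw [← he, eig_pow hF hg, Multiset.mem_map]
    exact ⟨_, ih, by rw [← pow_mul, pow_succ]⟩

theorem card_le_of_pows {g : GL3} {z : Fb} {ℓ : ℕ} (hz : orderOf z = ℓ) (s : Finset ℕ)
    (hs : ∀ i ∈ s, i < ℓ ∧ z ^ i ∈ eig g) : s.card ≤ 3 := by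
  classical
  calc s.card = (s.image (z ^ ·)).card := (Finset.card_image_of_injOn fun a ha b hb e =>
        pow_injOn_Iio_orderOf (hz.symm ▸ (hs a ha).1) (hz.symm ▸ (hs b hb).1) e).symm
    _ ≤ (eig g).toFinset.card := Finset.card_le_card fun w hw => by
        obtain ⟨i, hi, rfl⟩ := Finset.mem_image.1 hw
        exact Multiset.mem_toFinset.2 (hs i hi).2
    _ ≤ (eig g).card := Multiset.toFinset_card_le _
    _ = 3 := card_eig g

/-- an element of order seven conjugate to its square -/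
theorem mod_seven_of_square (hG : G ≤ Cfsg.Geo.specialLinear (Fin 3) F) (hF : ((7 : ℕ) : F) ≠ 0)
    {x k : Bar G} (hx : x ^ 7 = 1) (h1 : x ≠ 1) (hk : k * x * k⁻¹ = x ^ 2) :
    Fintype.card F ^ 3 % 7 = 1 := by
  haveI : Fact (Nat.Prime 7) := ⟨by norm_num⟩
  obtain ⟨g, -, hgn, hg1, he⟩ := exists_lift_conj hG (by norm_num) hF hx h1 hk
  obtain ⟨z, hz, hsq⟩ := squares_mem hF hgn hg1 he
  by_contra hne
  set q := Fintype.card F % 7 with hq
  have hq7 : q < 7 := Nat.mod_lt _ (by norm_num)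
  have hmem : z ^ q ∈ eig g := by
    have h := frob_mem (g := g) (z := z) (by simpa using hsq 0)
    rwa [← pow_mod_orderOf, hz] at h
  have hq' : q ≠ 1 ∧ q ≠ 2 ∧ q ≠ 4 := by
    refine ⟨?_, ?_, ?_⟩ <;> intro h <;> apply hne <;> rw [Nat.pow_mod, ← hq, h]
  have := card_le_of_pows hz {1, 2, 4, q} (by
    intro i hi
    simp only [Finset.mem_insert, Finset.mem_singleton] at hi
    rcases hi with rfl | rfl | rfl | rfl
    exacts [⟨by norm_num, hsq 0⟩, ⟨by norm_num, hsq 1⟩, ⟨by norm_num, hsq 2⟩, ⟨hq7, hmem⟩])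
  simp [hq'.1.symm, hq'.2.1.symm, hq'.2.2.symm] at this

/-- no element of order five is conjugate to its square -/
theorem char_five_of_square (hG : G ≤ Cfsg.Geo.specialLinear (Fin 3) F) {x k : Bar G}
    (hx : x ^ 5 = 1) (h1 : x ≠ 1) (hk : k * x * k⁻¹ = x ^ 2) : ((5 : ℕ) : F) = 0 := by
  by_contra hF
  haveI : Fact (Nat.Prime 5) := ⟨by norm_num⟩
  obtain ⟨g, -, hgn, hg1, he⟩ := exists_lift_conj hG (by norm_num) hF hx h1 hk
  obtain ⟨z, hz, hsq⟩ := squares_mem hF hgn hg1 he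
  have h8 : z ^ 3 ∈ eig g := by
    have h := hsq 3
    rwa [← pow_mod_orderOf, hz] at h
  have := card_le_of_pows hz {1, 2, 3, 4} (by
    intro i hi
    simp only [Finset.mem_insert, Finset.mem_singleton] at hi
    rcases hi with rfl | rfl | rfl | rfl
    exacts [⟨by norm_num, hsq 0⟩, ⟨by norm_num, hsq 1⟩, ⟨by norm_num, h8⟩, ⟨by norm_num, hsq 2⟩])
  simp at this

end Cfsg.Agent.PSLThree.Small
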