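import Mathlib
import Cfsg.Agent.Lib.PSLThree.Small.Lifts
import Cfsg.Agent.Lib.PSLThree.Small.Eigen

/-!
# An elementary nine-group inverted inside `Bar G` needs cube roots of unity
-/

set_option autoImplicit false
set_option linter.unusedSectionVars false

namespace Cfsg.Agent.PSLThree.Small

open Matrix

variable {F : Type*} [Field F] [Fintype F] {G : Subgroup (GL (Fin 3) F)}

local notation "GL3" => GL (Fin 3) F
local notation "Fb" => AlgebraicClosure F

/-- the combinatorics of four cube-root triples with a unique one each -/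
theorem no_four {M : Type*} [Field M] (x y : Fin 3 → M) (hx : ∀ i, x i ^ 3 = 1) (hy : ∀ i, y i ^ 3 = 1)
    (h1 : ∃! i, x i = 1) (h2 : ∃! i, y i = 1) (h3 : ∃! i, x i * y i = 1)
    (h4 : ∃! i, x i * y i * y i = 1) : False := by
  have key : ∀ i, x i ≠ 1 → y i ≠ 1 → x i * y i = 1 ∨ x i * y i * y i = 1 := fun i a b => by
    have ea : x i ^ 2 + x i + 1 = 0 := (mul_eq_zero.1
      (show (x i - 1) * (x i ^ 2 + x i + 1) = 0 by linear_combination hx i)).resolve_left (sub_ne_zero.2 a)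
    have eb : y i ^ 2 + y i + 1 = 0 := (mul_eq_zero.1
      (show (y i - 1) * (y i ^ 2 + y i + 1) = 0 by linear_combination hy i)).resolve_left (sub_ne_zero.2 b)
    rcases mul_eq_zero.1 (show (x i - y i) * (x i + y i + 1) = 0 by linear_combination ea - eb) with e | e
    · right
      rw [sub_eq_zero.1 e]
      linear_combination hy i
    · left
      linear_combination (x i) * e - ea
  obtain ⟨a, ha, ha'⟩ := h1
  obtain ⟨b, hb, hb'⟩ := h2
  obtain ⟨c, hc, hc'⟩ := h3
  obtain ⟨d, hd, hd'⟩ := h4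
  by_cases hab : a = b
  · subst hab
    have hca : c = a := (hc' a (show x a * y a = 1 by rw [ha, hb, mul_one])).symm
    have hda : d = a := (hd' a (show x a * y a * y a = 1 by rw [ha, hb, mul_one, mul_one])).symm
    subst hca hda
    obtain ⟨k, hk⟩ : ∃ k : Fin 3, k ≠ d := exists_ne d
    rcases key k (fun e => hk (ha' k e)) (fun e => hk (hb' k e)) with e | e
    · exact hk (hc' k e)
    · exact hk (hd' k e)
  · have hca : c ≠ a := fun e => hab (hb' a (by rw [e, ha, one_mul] at hc; exact hc))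
    have hcb : c ≠ b := fun e => hab (ha' b (by rw [e, hb, mul_one] at hc; exact hc)).symm
    have hda : d ≠ a := fun e => hab (hb' a (by
      rw [e, ha, one_mul] at hd
      have := hy a
      rw [pow_three, hd, mul_one] at this
      exact this))
    have hdb : d ≠ b := fun e => hab (ha' b (by rw [e, hb, mul_one, mul_one] at hd; exact hd)).symm
    have hcd : d = c := by omega
    rw [hcd] at hd
    rw [hc, one_mul] at hd
    exact hcb (hb' c hd)

/-- a non-cyclic elementary nine-group inverted by an element -/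
theorem three_dvd_of_nine (hG : G ≤ Cfsg.Geo.specialLinear (Fin 3) F) (hF3 : ((3 : ℕ) : F) ≠ 0)
    {e f t : Bar G} (he : e ^ 3 = 1) (hf : f ^ 3 = 1) (hef : Commute e f) (he1 : e ≠ 1) (hf1 : f ≠ 1)
    (h12 : e * f ≠ 1) (h13 : e * f * f ≠ 1) (hte : t * e * t⁻¹ = e⁻¹) (htf : t * f * t⁻¹ = f⁻¹) :
    Fintype.card F % 3 = 1 := by
  classical
  by_contra hq
  have hn : (3 : ℕ).Coprime 3 ∨ NoScalar G := Or.inr (noScalar_of_card hG hq)
  obtain ⟨a, ha, ha3, rfl⟩ := exists_lift' hG hn he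
  obtain ⟨b, hb, hb3, rfl⟩ := exists_lift' hG hn hf
  obtain ⟨k, hk, rfl⟩ := exists_rep t
  have inj : ∀ {g h : GL3} (hg : g ∈ G) (hh : h ∈ G),
      ((⟨g, hg⟩ : G) : Bar G) = ((⟨h, hh⟩ : G) : Bar G) → g = h := fun hg hh e => by
    exact inv_mul_eq_one.1 (noScalar_of_card hG hq _ (mul_mem (inv_mem hg) hh) (mk_eq.1 e))
  have hab : Commute a b := inj (mul_mem ha hb) (mul_mem hb ha) hef.eq
  have hka : k * a * k⁻¹ = a⁻¹ := inj (mul_mem (mul_mem hk ha) (inv_mem hk)) (inv_mem ha) hte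
  have hkb : k * b * k⁻¹ = b⁻¹ := inj (mul_mem (mul_mem hk hb) (inv_mem hk)) (inv_mem hb) htf
  have ha1 : a ≠ 1 := fun e => he1 (mk_eq_one.2 (e ▸ one_mem _))
  have hb1 : b ≠ 1 := fun e => hf1 (mk_eq_one.2 (e ▸ one_mem _))
  have hab1 : a * b ≠ 1 := fun e => h12 ((mk_eq_one (hg := mul_mem ha hb)).2 (e ▸ one_mem _))
  have hab2 : a * b * b ≠ 1 := fun e => h13 ((mk_eq_one (hg := mul_mem (mul_mem ha hb) hb)).2 (e ▸ one_mem _))
  obtain ⟨T, hT⟩ := exists_frame {a, b}
    (by rintro g (rfl | rfl) h (rfl | rfl); exacts [Commute.refl _, hab, hab.symm, Commute.refl _])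
    (by rintro g (rfl | rfl); exacts [⟨3, hF3, ha3⟩, ⟨3, hF3, hb3⟩])
  obtain ⟨x, hx⟩ := hT a (Or.inl rfl)
  obtain ⟨y, hy⟩ := hT b (Or.inr rfl)
  have hxd := inFrame_of_bar hx
  have hyd := inFrame_of_bar hy
  have uniq : ∀ {g : GL3} {z : Fin 3 → Fb}, g ∈ G → inFrame T g = diagonal z → g ^ 3 = 1 → g ≠ 1 →
      k * g * k⁻¹ = g⁻¹ → (∀ i, z i ^ 3 = 1) ∧ ∃! i, z i = 1 := by
    intro g z hg hz hg3 hg1 hkg
    obtain ⟨w, hw, hm⟩ := eig_real Nat.prime_three (by norm_num) (det_eq_one hG hg) hF3 hg3 hg1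
      (by rw [← hkg, eig_conj])
    have hze : eig g = Multiset.map z Finset.univ.val := by
      have hb' : bar g = (T : Matrix (Fin 3) (Fin 3) Fb) * diagonal z *
          ((T⁻¹ : GL (Fin 3) Fb) : Matrix (Fin 3) (Fin 3) Fb) := by
        rw [← hz, inFrame]; simp [Matrix.mul_assoc]
      rw [eig, hb', Matrix.coe_units_inv, Matrix.charpoly_units_conj, Matrix.charpoly_diagonal,
        Finset.prod_eq_multiset_prod]
      have h3 := Polynomial.roots_multiset_prod_X_sub_C (Multiset.map z Finset.univ.val)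
      rwa [Multiset.map_map] at h3
    refine ⟨fun i => pow_eq_one_of_mem hF3 hg3 (hze ▸ Multiset.mem_map_of_mem _ (Finset.mem_univ i)), ?_⟩
    have hw1 : w ≠ 1 := fun e => by simp [e] at hw
    have hw1' : w⁻¹ ≠ 1 := fun e => hw1 (inv_eq_one.1 e)
    have hcount : (Finset.univ.filter fun i => z i = 1).card = 1 := by
      classical
      have h := congrArg (Multiset.countP (fun a => a = 1)) hze
      rw [hm, Multiset.countP_map] at h
      simp [Multiset.countP_cons, hw1, hw1'] at h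
      rw [Finset.card_def, Finset.filter_val, ← h, ← Multiset.cons_zero, Multiset.countP_cons]; simp
    obtain ⟨i, hi⟩ := Finset.card_eq_one.1 hcount
    refine ⟨i, ?_, fun j hj => ?_⟩
    · have : i ∈ Finset.univ.filter fun i => z i = 1 := hi ▸ Finset.mem_singleton_self i
      exact (Finset.mem_filter.1 this).2
    · have : j ∈ ({i} : Finset (Fin 3)) := hi ▸ Finset.mem_filter.2 ⟨Finset.mem_univ j, hj⟩
      exact Finset.mem_singleton.1 this
  have hmul : ∀ {g h : GL3} {z w : Fin 3 → Fb}, inFrame T g = diagonal z → inFrame T h = diagonal w →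
      inFrame T (g * h) = diagonal fun i => z i * w i := fun hg hh => by
    rw [inFrame_mul, hg, hh, Matrix.diagonal_mul_diagonal]
  have cube : ∀ {g h : GL3}, g ^ 3 = 1 → h ^ 3 = 1 → Commute g h → (g * h) ^ 3 = 1 := fun hg hh hgh => by
    rw [hgh.mul_pow, hg, hh, one_mul]
  have conjm : ∀ {g h : GL3}, k * g * k⁻¹ = g⁻¹ → k * h * k⁻¹ = h⁻¹ → Commute g h →
      k * (g * h) * k⁻¹ = (g * h)⁻¹ := fun hg hh hgh => by
    rw [show ∀ g h : GL3, k * (g * h) * k⁻¹ = k * g * k⁻¹ * (k * h * k⁻¹) from fun g h => by group, hg, hh,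
      hgh.inv_inv.eq, _root_.mul_inv_rev]
  have c1 : Commute (a * b) b := hab.mul_left (Commute.refl _)
  obtain ⟨hx3, u1⟩ := uniq ha hxd ha3 ha1 hka
  obtain ⟨hy3, u2⟩ := uniq hb hyd hb3 hb1 hkb
  obtain ⟨-, u3⟩ := uniq (mul_mem ha hb) (hmul hxd hyd) (cube ha3 hb3 hab) hab1 (conjm hka hkb hab)
  obtain ⟨-, u4⟩ := uniq (mul_mem (mul_mem ha hb) hb) (hmul (hmul hxd hyd) hyd)
    (cube (cube ha3 hb3 hab) hb3 c1) hab2 (conjm (conjm hka hkb hab) hkb c1)
  exact no_four x y hx3 hy3 u1 u2 u3 u4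

end Cfsg.Agent.PSLThree.Small
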