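import Mathlib
import Cfsg.Agent.S0483
import Cfsg.Agent.S0254
import Cfsg.Agent.Lib.PSLThree.Small.Natural
import Cfsg.Agent.Lib.PSLThree.Small.Cross
import Cfsg.Agent.Lib.PSLThree.Small.Nine
import Cfsg.Agent.Lib.PSLThree.Small.Alt

/-!
# Piece E1: the groups without transvections and with dihedral Sylow 2-subgroups
-/

set_option autoImplicit false
set_option linter.unusedSectionVars false

namespace Cfsg.Agent.PSLThree.Small

open Matrix

variable {F : Type*} [Field F] [Fintype F] {P : Subgroup (GL (Fin 3) F)}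

theorem prime_of_cast {p n : ℕ} [CharP F p] (hp : p.Prime) (hn : n.Prime) (h : ((n : ℕ) : F) = 0) : p = n :=
  (Nat.prime_dvd_prime_iff_eq hp hn).1 ((CharP.cast_eq_zero_iff F p n).1 h)

theorem borel_pow_eq {K : Type*} [Field K] {N : Type*} [Group N] (B : BorelData K N) (n : ℕ) :
    B.u (n : K) = B.u 1 ^ n := by
  rw [← B.nsmul, mul_one]

theorem borel_ne {K : Type*} [Field K] {N : Type*} [Group N] (B : BorelData K N) : B.u 1 ≠ 1 :=
  fun h => one_ne_zero (B.eq_zero 1 h)

/-- the simple groups with dihedral Sylow 2-subgroups inside `PSL₃` without transvections -/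
theorem small_type (p α : ℕ) [Fact p.Prime] (hp : p ≠ 2) (hF : Fintype.card F = p ^ α)
    (hC : Core P) (hT : ¬ HasTrv P)
    (hS : ∀ S : Sylow 2 (Bar P), ∃ n, 2 ≤ n ∧ Nonempty ((S : Subgroup (Bar P)) ≃* DihedralGroup n)) :
    SmallType F p α (Bar P) := by
  classical
  haveI := Fact.mk Nat.prime_two
  haveI : CharP F p := charP_of_card_eq_prime_pow hF
  have hG := hC.le
  have hqodd : Fintype.card F % 2 = 1 := FiniteField.odd_card_of_char_ne_two (by rw [ringChar.eq F p]; exact hp)
  haveI : IsSimpleGroup (Bar P) := hC.simple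
  haveI : Group.IsPerfect (Bar P) := by
    refine ⟨((inferInstance : (commutator (Bar P)).Normal).eq_bot_or_eq_top).resolve_left fun h => ?_⟩
    exact hC.nonabelian ((commutator_eq_bot_iff _).1 h)
  obtain ⟨S⟩ := (inferInstance : Nonempty (Sylow 2 (Bar P)))
  obtain ⟨n, hn, hSn⟩ := hS S
  have hodd : Cfsg.oddCore (Bar P) = ⊥ := by
    refine le_bot_iff.1 (sSup_le fun N hN => ?_)
    rcases hN.1.eq_bot_or_eq_top with h | h
    · exact h.le
    · exfalso
      obtain ⟨e⟩ := hSn
      have h2 : 2 ∣ Nat.card N := by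
        rw [h, Subgroup.card_top]
        refine dvd_trans ?_ (Subgroup.card_subgroup_dvd_card (S : Subgroup (Bar P)))
        rw [Nat.card_congr e.toEquiv, DihedralGroup.nat_card]
        exact dvd_mul_right _ _
      have := Nat.dvd_gcd h2 (dvd_refl 2)
      rw [hN.2] at this
      exact absurd this (by norm_num)
  let eQ : Bar P ≃* Bar P ⧸ Cfsg.oddCore (Bar P) :=
    (QuotientGroup.quotientBot.symm).trans (QuotientGroup.quotientMulEquivOfEq hodd.symm)
  rcases S0483.result S n hn hSn with ⟨K, _, _, hKodd, hK3, ⟨e⟩⟩ | ⟨⟨e⟩⟩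
  · let e' : Bar P ≃* Matrix.ProjectiveSpecialLinearGroup (Fin 2) K := eQ.trans e
    obtain ⟨B⟩ := exists_borel e'
    obtain ⟨l, hl⟩ := CharP.exists K
    obtain ⟨β, hlp, hcard⟩ := FiniteField.card K l
    haveI := Fact.mk hlp
    by_cases hlp' : l = p
    · subst hlp'
      refine Or.inl ⟨K, inferInstance, inferInstance, β, hcard, ?_, by rw [← hcard]; omega, ⟨e'⟩⟩
      obtain ⟨f⟩ := exists_embedding l hp hG hT B
      letI := f.toAlgebra
      have h := Module.card_eq_pow_finrank (K := K) (V := F)
      rw [hF, hcard, ← pow_mul] at h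
      exact ⟨_, Nat.pow_right_injective hlp.two_le h⟩
    · have hchar : ∀ {c : ℕ}, c.Prime → Fintype.card K = c → l = c := fun hc h =>
        (Nat.prime_dvd_prime_iff_eq hlp hc).1 (h ▸ hcard ▸ dvd_pow_self l β.pos.ne')
      rcases cross_card p hG hlp' hKodd hK3 B with h | h | h
      · -- five
        have hl5 := hchar (show Nat.Prime 5 by norm_num) h
        subst hl5
        have h5 : ((5 : ℕ) : F) ≠ 0 := fun h0 => hlp' (prime_of_cast Fact.out (by norm_num) h0).symm
        obtain ⟨k, hk⟩ := B.torus 2 (by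
          intro h2
          have := (CharP.cast_eq_zero_iff K 5 2).1 (by exact_mod_cast h2)
          norm_num at this)
        have hm := mod_five_of_real hG h5 (B.pow_char 5 1) (borel_ne B) (k := k) (by
          rw [hk, ← B.neg]
          congr 1
          have h0 : ((5 : ℕ) : K) = 0 := CharP.cast_eq_zero K 5
          push_cast at h0
          linear_combination h0)
        refine Or.inr (Or.inl ⟨fun h0 => hlp' h0.symm, ?_, K, inferInstance, inferInstance, h, ⟨e'⟩⟩)
        rw [← hF]; omega
      · -- seven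
        have hl7 := hchar (show Nat.Prime 7 by norm_num) h
        subst hl7
        have h7 : ((7 : ℕ) : F) ≠ 0 := fun h0 => hlp' (prime_of_cast Fact.out (by norm_num) h0).symm
        obtain ⟨k, hk⟩ := B.torus 3 (by
          intro h2
          have := (CharP.cast_eq_zero_iff K 7 3).1 (by exact_mod_cast h2)
          norm_num at this)
        have hm := mod_seven_of_square hG h7 (B.pow_char 7 1) (borel_ne B) (k := k) (by
          rw [hk, ← borel_pow_eq]
          congr 1
          have h0 : ((7 : ℕ) : K) = 0 := CharP.cast_eq_zero K 7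
          push_cast at h0 ⊢
          linear_combination h0)
        exact Or.inr (Or.inr (Or.inl ⟨fun h0 => hlp' h0.symm, hF ▸ hm, K, inferInstance, inferInstance, h,
          ⟨e'⟩⟩))
      · -- nine
        have hl3 : l = 3 := (Nat.prime_dvd_prime_iff_eq hlp Nat.prime_three).1 (hlp.dvd_of_dvd_pow
          (show l ∣ 3 ^ 2 by rw [show (3 : ℕ) ^ 2 = 9 from rfl, ← h, hcard]; exact dvd_pow_self l β.pos.ne'))
        have hp3 : p ≠ 3 := fun h0 => hlp' (hl3.trans h0.symm)
        have h3 : ((3 : ℕ) : F) ≠ 0 := fun h0 => hp3 (prime_of_cast Fact.out Nat.prime_three h0)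
        obtain ⟨e6⟩ := S0254.result h
        let e6' := e'.trans e6
        obtain ⟨a, b, t, x, k, ha, hb, hab, ha1, hb1, h12, h13, hta, htb, hx, hx1, hk⟩ := alt_six_elements
        let φ := e6'.symm
        have hne : ∀ {y : alternatingGroup (Fin 6)}, y ≠ 1 → φ y ≠ 1 := fun hy h => hy
          (φ.injective (h.trans (map_one φ).symm))
        have hq3 := three_dvd_of_nine hG h3 (e := φ a) (f := φ b) (t := φ t)
          (by rw [← map_pow, ha, map_one]) (by rw [← map_pow, hb, map_one])
          (by show _ = _; rw [← map_mul, ← map_mul, hab]) (hne ha1) (hne hb1)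
          (by rw [← map_mul]; exact hne h12) (by rw [← map_mul, ← map_mul]; exact hne h13)
          (by rw [← map_inv, ← map_mul, ← map_mul, hta, map_inv]) (by rw [← map_inv, ← map_mul, ← map_mul, htb, map_inv])
        refine Or.inr (Or.inr (Or.inr (Or.inl ⟨hp3, hF ▸ hq3, ?_, ⟨e6'⟩⟩)))
        by_cases h5 : p = 5
        · exact Or.inl h5
        · right
          rw [← hF]
          exact mod_five_of_real hG (fun h0 => h5 (prime_of_cast Fact.out (by norm_num) h0))
            (x := φ x) (k := φ k) (by rw [← map_pow, hx, map_one]) (hne hx1)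
            (by rw [← map_inv, ← map_mul, ← map_mul, hk, map_inv])
  · -- the alternating group of degree seven
    let φ := (eQ.trans e).symm
    obtain ⟨a, b, t, x, k, ha, hb, hab, ha1, hb1, h12, h13, hta, htb, hx, hx1, hk⟩ := alt_seven_elements
    have hne : ∀ {y : alternatingGroup (Fin 7)}, y ≠ 1 → φ y ≠ 1 := fun hy h => hy
      (φ.injective (h.trans (map_one φ).symm))
    have h5 := char_five_of_square hG (x := φ x) (k := φ k) (by rw [← map_pow, hx, map_one]) (hne hx1)
      (by rw [← map_inv, ← map_mul, ← map_mul, hk, map_pow])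
    have hp5 : p = 5 := prime_of_cast Fact.out (by norm_num) h5
    have h3 : ((3 : ℕ) : F) ≠ 0 := fun h0 => by
      have := prime_of_cast (p := p) Fact.out Nat.prime_three h0
      omega
    have hq3 := three_dvd_of_nine hG h3 (e := φ a) (f := φ b) (t := φ t)
      (by rw [← map_pow, ha, map_one]) (by rw [← map_pow, hb, map_one])
      (by show _ = _; rw [← map_mul, ← map_mul, hab]) (hne ha1) (hne hb1)
      (by rw [← map_mul]; exact hne h12) (by rw [← map_mul, ← map_mul]; exact hne h13)
      (by rw [← map_inv, ← map_mul, ← map_mul, hta, map_inv]) (by rw [← map_inv, ← map_mul, ← map_mul, htb, map_inv])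
    refine Or.inr (Or.inr (Or.inr (Or.inr ⟨hp5, ?_, ⟨eQ.trans e⟩⟩)))
    rw [hF, hp5] at hq3
    by_contra hev
    obtain ⟨m, rfl⟩ := Nat.not_even_iff_odd.1 hev
    rw [pow_succ, pow_mul, Nat.mul_mod, Nat.pow_mod] at hq3
    norm_num at hq3

end Cfsg.Agent.PSLThree.Small
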